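import Groth.Prelude.Def_W4c1hilbchowincPtFun
import Groth.Agent.DvrDom.Basic
import Mathlib

/-!
Point functions on the spectrum of a reduced integrally closed Noetherian ring varying along DVRs.
-/

set_option autoImplicit false
universe u

open CategoryTheory AlgebraicGeometry W4c1hilbchowinc

namespace Groth.Agent.PtFunDvrLib

variable (A : Type u) [CommRing A]

/-- evaluation of ring elements at a point -/
noncomputable def ev (x : Spec (CommRingCat.of A)) : A →+* (Spec (CommRingCat.of A)).residueField x :=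
  ((Scheme.ΓSpecIso (CommRingCat.of A)).inv ≫ (Spec (CommRingCat.of A)).Γevaluation x).hom

variable {A}

theorem ev_eq (x : Spec (CommRingCat.of A)) (a : A) :
    ev A x a = (Scheme.Spec.residueFieldIso (CommRingCat.of A) x).inv
      (algebraMap A x.asIdeal.ResidueField a) := by
  have h := congrArg (fun q => q.hom a) (Scheme.Spec.algebraMap_residueFieldIso_inv (CommRingCat.of A) x)
  exact h.symm

theorem ev_eq_zero (x : Spec (CommRingCat.of A)) (a : A) : ev A x a = 0 ↔ a ∈ x.asIdeal := by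
  rw [ev_eq]
  exact (map_eq_zero_iff _ (Scheme.Spec.residueFieldIso (CommRingCat.of A) x).commRingCatIsoToRingEquiv.symm.injective).trans
    Ideal.algebraMap_residueField_eq_zero

theorem exists_frac (x : Spec (CommRingCat.of A)) (v : (Spec (CommRingCat.of A)).residueField x) :
    ∃ a b : A, ev A x b ≠ 0 ∧ v * ev A x b = ev A x a := by
  let e := (Scheme.Spec.residueFieldIso (CommRingCat.of A) x).commRingCatIsoToRingEquiv
  obtain ⟨p, q, hq, hpq⟩ := IsFractionRing.div_surjective (A := A ⧸ x.asIdeal) (e v)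
  obtain ⟨a, rfl⟩ := Ideal.Quotient.mk_surjective p
  obtain ⟨b, rfl⟩ := Ideal.Quotient.mk_surjective q
  have hev : ∀ c : A, e (ev A x c) = algebraMap A x.asIdeal.ResidueField c := fun c => by
    rw [ev_eq]
    exact e.apply_symm_apply _
  have hb : algebraMap A x.asIdeal.ResidueField b ≠ 0 := by
    rw [Ne, Ideal.algebraMap_residueField_eq_zero, ← Ideal.Quotient.eq_zero_iff_mem]
    exact nonZeroDivisors.ne_zero hq
  refine ⟨a, b, fun h => hb (by rw [← hev, h, map_zero]), e.injective ?_⟩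
  rw [map_mul, hev, hev, ← hpq]
  rw [← Ideal.Quotient.algebraMap_eq, ← IsScalarTower.algebraMap_apply, ← IsScalarTower.algebraMap_apply,
    div_mul_cancel₀ _ hb]

theorem key (f : PtFun (Spec (CommRingCat.of A))) (hf : f.VariesAlongDVR) (R : Type u) [CommRing R]
    [IsDomain R] [IsDiscreteValuationRing R] (φ : A →+* R) :
    ∃ r : R, ∀ (y : Spec (CommRingCat.of R)) (x : Spec (CommRingCat.of A)),
      x.asIdeal = y.asIdeal.comap φ → ∀ a b : A, f x * ev A x b = ev A x a →
        r * φ b - φ a ∈ y.asIdeal := by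
  obtain ⟨s, hs⟩ := hf R (Spec.map (CommRingCat.ofHom φ))
  refine ⟨(Scheme.ΓSpecIso (CommRingCat.of R)).hom s, fun y x hx a b hab => ?_⟩
  obtain rfl : x = (Spec.map (CommRingCat.ofHom φ)) y := PrimeSpectrum.ext hx
  have hy := congrFun hs y
  have hnat : ∀ c : A, (Spec.map (CommRingCat.ofHom φ)).residueFieldMap y
      (ev A ((Spec.map (CommRingCat.ofHom φ)) y) c) = ev R y (φ c) := by
    intro c
    change (Spec.map (CommRingCat.ofHom φ)).residueFieldMap y
      ((Spec (CommRingCat.of A)).Γevaluation _ ((Scheme.ΓSpecIso (CommRingCat.of A)).inv c)) = _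
    rw [Scheme.Γevaluation_naturality_apply]
    refine congrArg ((Spec (CommRingCat.of R)).Γevaluation y) ?_
    exact (congrArg (fun q => q.hom c) (Scheme.ΓSpecIso_inv_naturality (CommRingCat.ofHom φ))).symm
  have h1 := congrArg ((Spec.map (CommRingCat.ofHom φ)).residueFieldMap y) hab
  rw [map_mul, hnat, hnat] at h1
  have h2 : (Spec.map (CommRingCat.ofHom φ)).residueFieldMap y (f _) =
      ev R y ((Scheme.ΓSpecIso (CommRingCat.of R)).hom s) := by
    refine (Eq.trans ?_ hy.symm).trans ?_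
    · rfl
    · refine congrArg ((Spec (CommRingCat.of R)).Γevaluation y) ?_
      exact (congrArg (fun q => q.hom s) (Scheme.ΓSpecIso (CommRingCat.of R)).hom_inv_id).symm
  rw [h2, ← map_mul] at h1
  rw [← ev_eq_zero, map_sub, h1, sub_self]

theorem mem_frac_closure (x : Spec (CommRingCat.of A)) :
    Subfield.closure (Set.range (ev A x) ∪ ((∅ : Finset ((Spec (CommRingCat.of A)).residueField x)) :
      Set ((Spec (CommRingCat.of A)).residueField x))) = ⊤ := by
  rw [eq_top_iff]
  intro v _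
  obtain ⟨a, b, hb, hab⟩ := exists_frac x v
  rw [← eq_div_iff hb] at hab
  rw [hab]
  exact div_mem (Subfield.subset_closure (Or.inl ⟨a, rfl⟩)) (Subfield.subset_closure (Or.inl ⟨b, rfl⟩))

theorem main [IsReduced A] [IsNoetherianRing A] [IsIntegrallyClosed A]
    (f : PtFun (Spec (CommRingCat.of A))) (hf : f.VariesAlongDVR) :
    ∃ a : A, ∀ x, ev A x a = f x := by
  classical
  have hfin := minimalPrimes.finite_of_isNoetherianRing A
  let M := hfin.toFinset
  have hM : ∀ p ∈ M, p.IsPrime := fun p hp => Ideal.minimalPrimes_isPrime (hfin.mem_toFinset.mp hp)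
  let pt : M → Spec (CommRingCat.of A) := fun p => ⟨p.1, hM p.1 p.2⟩
  choose a b hb hab using fun x => exists_frac (A := A) x (f x)
  -- integrality at minimal primes
  have hint : ∀ p : M, ∃ P : Polynomial A, P.Monic ∧
      Polynomial.eval₂ (ev A (pt p)) (f (pt p)) P = 0 := by
    intro p
    let L := (Spec (CommRingCat.of A)).residueField (pt p)
    letI : Algebra A L := (ev A (pt p)).toAlgebra
    by_contra hcon
    have hni : ¬ IsIntegral A (f (pt p) : L) := fun ⟨P, hP, hP'⟩ => hcon ⟨P, hP, hP'⟩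
    obtain ⟨R, hR, hmem, hnot⟩ := DvrDomLib.exists_dvr_not_mem (∅ : Finset L)
      (mem_frac_closure (pt p)) _ hni
    let φ : A →+* R := (algebraMap A L).codRestrict R hmem
    obtain ⟨r, hr⟩ := key f hf R φ
    have h1 := hr ⟨⊥, Ideal.isPrime_bot⟩ (pt p) (by
      ext c
      rw [Ideal.mem_comap, Ideal.mem_bot, ← Subtype.coe_inj]
      exact (ev_eq_zero (pt p) c).symm) _ _ (hab (pt p))
    rw [Ideal.mem_bot, sub_eq_zero] at h1
    have h2 : (r : L) * ev A (pt p) (b (pt p)) = ev A (pt p) (a (pt p)) := congrArg Subtype.val h1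
    rw [← hab (pt p)] at h2
    exact hnot ((mul_right_cancel₀ (hb (pt p)) h2) ▸ r.2)
  choose P hP hP0 using hint
  have hsep : ∀ p : M, ∃ e : A, e ∉ p.1 ∧ ∀ q : M, q ≠ p → e ∈ q.1 := by
    intro p
    have : ∀ q : M, q ≠ p → ∃ c ∈ q.1, c ∉ p.1 := by
      intro q hq
      refine SetLike.not_le_iff_exists.mp fun hle => hq (Subtype.ext ?_)
      exact le_antisymm hle ((hfin.mem_toFinset.mp p.2).2 ⟨hM q.1 q.2, bot_le⟩ hle)
    choose c hc hc' using this
    refine ⟨∏ q : {q : M // q ≠ p}, c q.1 q.2, ?_, fun q hq => ?_⟩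
    · intro h
      obtain ⟨q, -, hq⟩ := (hM p.1 p.2).prod_mem_iff.mp h
      exact hc' q.1 q.2 hq
    · exact Ideal.mem_of_dvd _ (Finset.dvd_prod_of_mem _ (Finset.mem_univ (⟨q, hq⟩ : {q : M // q ≠ p}))) (hc q hq)
  choose e he he' using hsep
  let s := ∑ p : M, e p * b (pt p)
  let num := ∑ p : M, e p * a (pt p)
  have hsum : ∀ (p : M) (g : M → A), ev A (pt p) (∑ q : M, e q * g q) = ev A (pt p) (e p) * ev A (pt p) (g p) := by
    intro p g
    rw [map_sum, Finset.sum_eq_single p, map_mul]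
    · intro q _ hq
      rw [map_mul, (ev_eq_zero _ _).mpr (he' q p (Ne.symm hq)), zero_mul]
    · intro h; exact absurd (Finset.mem_univ p) h
  have hnum : ∀ p : M, f (pt p) * ev A (pt p) s = ev A (pt p) num := by
    intro p
    rw [hsum p, hsum p, ← hab (pt p)]
    ring
  have hs0 : ∀ p : M, ev A (pt p) s ≠ 0 := fun p => by
    rw [hsum p]
    exact mul_ne_zero (fun h => he p ((ev_eq_zero _ _).mp h)) (hb _)
  have hnil : ∀ c : A, (∀ p : M, ev A (pt p) c = 0) → c = 0 := by
    intro c hc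
    have : c ∈ (⊥ : Ideal A).radical := by
      rw [← Ideal.sInf_minimalPrimes, Ideal.mem_sInf]
      intro p hp
      exact (ev_eq_zero _ _).mp (hc ⟨p, hfin.mem_toFinset.mpr hp⟩)
    obtain ⟨n, hn⟩ := this
    exact IsReduced.eq_zero c ⟨n, hn⟩
  have hsnz : s ∈ nonZeroDivisors A := by
    rw [mem_nonZeroDivisors_iff_right]
    intro c hc
    refine hnil c fun p => ?_
    have h := congrArg (ev A (pt p)) hc
    rw [map_mul, map_zero, mul_eq_zero] at h
    exact h.resolve_right (hs0 p)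
  let Q := ∏ p : M, P p
  have hQ : Q.Monic := Polynomial.monic_prod_of_monic _ _ fun p _ => hP p
  let K := FractionRing A
  let z : K := IsLocalization.mk' K num ⟨s, hsnz⟩
  have hz : IsIntegral A z := by
    refine ⟨Q, hQ, ?_⟩
    have hc : Polynomial.eval num (Q.scaleRoots s) = 0 := by
      refine hnil _ fun p => ?_
      rw [← Polynomial.eval₂_at_apply, ← hnum p, mul_comm, Polynomial.scaleRoots_eval₂_mul,
        Polynomial.eval₂_finsetProd, Finset.prod_eq_zero (Finset.mem_univ p) (hP0 p), mul_zero]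
    have h1 : Polynomial.eval₂ (algebraMap A K) (algebraMap A K s * z) (Q.scaleRoots s) = 0 := by
      rw [show algebraMap A K s * z = algebraMap A K num from IsLocalization.mk'_spec' K num ⟨s, hsnz⟩,
        Polynomial.eval₂_at_apply, hc, map_zero]
    rw [Polynomial.scaleRoots_eval₂_mul] at h1
    exact ((IsLocalization.map_units K ⟨s, hsnz⟩).pow _).mul_right_eq_zero.mp h1
  obtain ⟨a₀, ha₀⟩ := IsIntegrallyClosedIn.algebraMap_eq_of_integral (R := A) (A := K) hz
  have ha₀' : a₀ * s = num := by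
    apply IsFractionRing.injective A K
    rw [map_mul, ha₀]
    exact IsLocalization.mk'_spec K num ⟨s, hsnz⟩
  have hgen : ∀ p : M, ev A (pt p) a₀ = f (pt p) := fun p => by
    have := hnum p
    rw [← ha₀', map_mul] at this
    exact (mul_right_cancel₀ (hs0 p) this).symm
  refine ⟨a₀, fun x => ?_⟩
  obtain ⟨p, hp, hpx⟩ := Ideal.exists_minimalPrimes_le (I := (⊥ : Ideal A)) (J := x.asIdeal) bot_le
  let p' : M := ⟨p, hfin.mem_toFinset.mpr hp⟩
  by_cases hxp : x.asIdeal = p
  · obtain rfl : x = pt p' := PrimeSpectrum.ext hxp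
    exact hgen p'
  let L := (Spec (CommRingCat.of A)).residueField (pt p')
  letI : Algebra A L := (ev A (pt p')).toAlgebra
  obtain ⟨c, hc, hcp⟩ := SetLike.exists_of_lt (lt_of_le_of_ne hpx (Ne.symm hxp))
  obtain ⟨R, hR, hmem, hval⟩ := DvrDomLib.exists_dvr_dominating (L := L) x.asIdeal
    (fun d hd => hpx ((ev_eq_zero (pt p') d).mp hd))
    ⟨c, hc, fun h => hcp ((ev_eq_zero (pt p') c).mp h)⟩ (∅ : Finset L) (mem_frac_closure (pt p'))
  let φ : A →+* R := (algebraMap A L).codRestrict R hmem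
  obtain ⟨r, hr⟩ := key f hf R φ
  have h1 := hr ⟨⊥, Ideal.isPrime_bot⟩ (pt p') (by
    ext d
    rw [Ideal.mem_comap, Ideal.mem_bot, ← Subtype.coe_inj]
    exact (ev_eq_zero (pt p') d).symm) a₀ 1 (by rw [map_one, mul_one, hgen p'])
  rw [Ideal.mem_bot, map_one, mul_one, sub_eq_zero] at h1
  have h2 := hr ⟨IsLocalRing.maximalIdeal R, inferInstance⟩ x (by
    ext d
    rw [Ideal.mem_comap]
    exact ((hval d).symm.trans (R.valuation_lt_one_iff (φ d)).symm)) _ _ (hab x)
  rw [h1, ← map_mul, ← map_sub] at h2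
  have h3 : a₀ * b x - a x ∈ x.asIdeal :=
    (hval _).mp ((R.valuation_lt_one_iff _).mp h2)
  rw [← ev_eq_zero, map_sub, map_mul, sub_eq_zero, ← hab x] at h3
  exact mul_right_cancel₀ (hb x) h3

end Groth.Agent.PtFunDvrLib

namespace Groth.Agent.PtFunDvrLib

variable {A : Type u} [CommRing A]

theorem exists_sqrt_cube [IsReduced A]
    (h : ∀ f : PtFun (Spec (CommRingCat.of A)), f.VariesAlongDVR →
      ∃! a : Γ(Spec (CommRingCat.of A), ⊤), PtFun.ofSection (Spec (CommRingCat.of A)) a = f)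
    (x y : A) (hxy : x ^ 3 = y ^ 2) : ∃! a : A, x = a ^ 2 ∧ y = a ^ 3 := by
  classical
  let f : PtFun (Spec (CommRingCat.of A)) := fun P =>
    if ev A P x = 0 then 0 else ev A P y / ev A P x
  have hf : f.VariesAlongDVR := by
    intro R _ _ _ g
    obtain ⟨φ₀, rfl⟩ := Spec.map_surjective g
    obtain ⟨φ, rfl⟩ : ∃ φ : A →+* R, φ₀ = CommRingCat.ofHom φ := ⟨φ₀.hom, rfl⟩
    obtain ⟨r, hrx, hry⟩ : ∃ r : R, φ x = r ^ 2 ∧ φ y = φ x * r := by
      by_cases hx : φ x = 0
      · refine ⟨0, by simp [hx], ?_⟩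
        have : φ y ^ 2 = 0 := by rw [← map_pow, ← hxy, map_pow, hx]; simp
        rw [hx, zero_mul]
        exact eq_zero_of_pow_eq_zero this
      · have hd : φ x ^ 2 ∣ φ y ^ 2 := ⟨φ x, by rw [← map_pow φ y, ← hxy, map_pow]; ring⟩
        obtain ⟨r, hr⟩ := (IsIntegrallyClosed.pow_dvd_pow_iff two_ne_zero).mp hd
        refine ⟨r, mul_left_cancel₀ (pow_ne_zero 2 hx) ?_, hr⟩
        have h1 : φ x ^ 3 = φ y ^ 2 := by rw [← map_pow, hxy, map_pow]
        rw [hr] at h1
        linear_combination h1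
    refine ⟨(Scheme.ΓSpecIso (CommRingCat.of R)).inv r, funext fun P => ?_⟩
    have hnat : ∀ c : A, (Spec.map (CommRingCat.ofHom φ)).residueFieldMap P (ev A ((Spec.map (CommRingCat.ofHom φ)) P) c) = ev R P (φ c) := by
      intro c
      change (Spec.map (CommRingCat.ofHom φ)).residueFieldMap P
        ((Spec (CommRingCat.of A)).Γevaluation _ ((Scheme.ΓSpecIso (CommRingCat.of A)).inv c)) = _
      rw [Scheme.Γevaluation_naturality_apply]
      refine congrArg ((Spec (CommRingCat.of R)).Γevaluation P) ?_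
      exact (congrArg (fun q => q.hom c) (Scheme.ΓSpecIso_inv_naturality (CommRingCat.ofHom φ))).symm
    change ev R P r = (Spec.map (CommRingCat.ofHom φ)).residueFieldMap P (f ((Spec.map (CommRingCat.ofHom φ)) P))
    have hx' := hnat x
    have hy' := hnat y
    rw [hry, map_mul] at hy'
    rw [hrx, map_pow] at hx'
    by_cases hz : ev A ((Spec.map (CommRingCat.ofHom φ)) P) x = 0
    · rw [show f ((Spec.map (CommRingCat.ofHom φ)) P) = 0 from if_pos hz, map_zero]
      rw [hz, map_zero] at hx'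
      exact eq_zero_of_pow_eq_zero hx'.symm
    · rw [show f ((Spec.map (CommRingCat.ofHom φ)) P) = ev A _ y / ev A _ x from if_neg hz, map_div₀, hy', hnat,
        mul_div_assoc]
      have h0 : ev R P (φ x) ≠ 0 := by
        rw [← hnat]
        exact (map_ne_zero _).mpr hz
      rw [← mul_div_assoc, mul_div_cancel_left₀ _ h0]
  obtain ⟨s, hs, -⟩ := h f hf
  let a : A := (Scheme.ΓSpecIso (CommRingCat.of A)).hom s
  have ha : ∀ P, ev A P a = f P := fun P => by
    refine Eq.trans ?_ (congrFun hs P)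
    exact congrArg ((Spec (CommRingCat.of A)).Γevaluation P)
      (congrArg (fun q => q.hom s) (Scheme.ΓSpecIso (CommRingCat.of A)).hom_inv_id)
  have hzero : ∀ c : A, (∀ P, ev A P c = 0) → c = 0 := fun c hc =>
    IsReduced.eq_zero _ (nilpotent_iff_mem_prime.mpr fun J hJ => (ev_eq_zero ⟨J, hJ⟩ c).mp (hc _))
  have h1 : ∀ P, ev A P x = ev A P a ^ 2 ∧ ev A P y = ev A P a ^ 3 := by
    intro P
    have hxy' : ev A P x ^ 3 = ev A P y ^ 2 := by rw [← map_pow, ← map_pow, hxy]
    rw [ha P]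
    by_cases hz : ev A P x = 0
    · rw [show f P = 0 from if_pos hz, hz]
      rw [hz] at hxy'
      simp only [ne_eq, OfNat.ofNat_ne_zero, not_false_eq_true, zero_pow] at hxy' ⊢
      exact ⟨trivial, eq_zero_of_pow_eq_zero hxy'.symm⟩
    · rw [show f P = ev A P y / ev A P x from if_neg hz, div_pow, div_pow]
      constructor
      · rw [eq_div_iff (pow_ne_zero 2 hz)]
        linear_combination hxy'
      · rw [eq_div_iff (pow_ne_zero 3 hz)]
        linear_combination (ev A P y) * hxy'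
  refine ⟨a, ⟨sub_eq_zero.mp (hzero _ fun P => ?_), sub_eq_zero.mp (hzero _ fun P => ?_)⟩, ?_⟩
  · rw [map_sub, map_pow, ← (h1 P).1, sub_self]
  · rw [map_sub, map_pow, ← (h1 P).2, sub_self]
  rintro b ⟨hbx, hby⟩
  refine sub_eq_zero.mp (hzero _ fun P => eq_zero_of_pow_eq_zero (n := 3) ?_)
  have e1 : ev A P b ^ 2 = ev A P a ^ 2 := by rw [← (h1 P).1, hbx, map_pow]
  have e2 : ev A P b ^ 3 = ev A P a ^ 3 := by rw [← (h1 P).2, hby, map_pow]
  rw [map_sub]
  linear_combination 4 * e2 - 3 * (ev A P a + ev A P b) * e1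

end Groth.Agent.PtFunDvrLib
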